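import Cfsg.Agent.SP.Mon.L3.Iface
import Cfsg.Agent.SP.Mon.C2A.Box
import Cfsg.Agent.SP.Mon.Odd.Gen
import Cfsg.Agent.SP.NTh.Three.UE
import Cfsg.Agent.SP.NTh.Base

/-! # S5755, the Monster: box `L3C` (helper23)

An elementary abelian 3-subgroup of `Th` has order at most `3 ^ 5`. -/

set_option autoImplicit false
set_option linter.style.haveILetI false

namespace Cfsg.Agent.SP.Mon.L3C

open Subgroup Cfsg.Agent.SP
open Cfsg.Agent.BpSpor.MBigModel (MG)

theorem card_le_hom {G H : Type*} [Group G] [Finite G] [Group H] [Finite H] {x : G} (f : centralizer ({x} : Set G) →* H)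
    (hf : ∀ g, f g = 1 → (g : G) ∈ zpowers x) {Y : Subgroup G} {Z : Subgroup H}
    (hY : ∀ y ∈ Y, ∃ h : y ∈ centralizer ({x} : Set G), f ⟨y, h⟩ ∈ Z) : Nat.card Y ≤ Nat.card Z * orderOf x := by
  classical
  rw [← Nat.card_zpowers]
  refine Odd.ncard_le_mul (Y := (Y : Set G)) (Z := (Z : Set H)) (Set.toFinite _)
    (fun y => if h : y ∈ centralizer ({x} : Set G) then f ⟨y, h⟩ else 1) (zpowers x) (fun y hy => ?_) fun y hy y' hy' e => ?_
  · obtain ⟨h, h'⟩ := hY y hy
    simp only [dif_pos h]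
    exact h'
  · obtain ⟨h, -⟩ := hY y hy
    obtain ⟨h', -⟩ := hY y' hy'
    simp only [dif_pos h, dif_pos h'] at e
    exact hf (⟨y, h⟩⁻¹ * ⟨y', h'⟩) (by rw [map_mul, map_inv, e, inv_mul_cancel])

/-- the 3-rank of `Th` -/
theorem card_EA {V : Subgroup Spor.Th} (h : NTh.Three.EA V) : Nat.card V ≤ 243 := by
  haveI := NTh.finTh
  obtain ⟨g, hg | hg⟩ := h.loc
  · rw [← H777.Th3.card_cj V g]
    refine (card_le_of_le (K := H777.Th3.thDat.U) fun v hv => ?_).trans (H777.Th3.Dat.card_U H777.Th3.th_u1_ne).le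
    simpa [mul_assoc] using hg _ (H777.Th3.mem_cj.1 hv)
  · rw [← H777.Th3.card_cj V g]
    refine (card_le_of_le (K := H777.Th3.thDat.Vs) fun v hv => ?_).trans (H777.Th3.Dat.card_Vs H777.Th3.th_u1_ne).le
    simpa [mul_assoc] using hg _ (H777.Th3.mem_cj.1 hv)

theorem card_cent3 {y : Spor.Th} (hy : orderOf y = 3) : Nat.card (centralizer ({y} : Set Spor.Th)) ≤ 12737088 := by
  rcases NTh.cls3 hy with h | h | h <;> rw [← NTh.card_cent_isConj h]
  · exact Nat.le_of_dvd (by norm_num) NTh.cA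
  · exact (Nat.le_of_dvd (by norm_num) NTh.cB).trans (by norm_num)
  · exact (Nat.le_of_dvd (by norm_num) NTh.cC).trans (by norm_num)

/-- **Box `L3C`.** -/
theorem boxL3C (hN : BoxN3C) (hU : BoxU) : BoxL3C := by
  haveI : Finite MG := BpSpor.MBigModel.finite
  haveI := NTh.finTh
  haveI : Fact (Nat.Prime 3) := ⟨Nat.prime_three⟩
  rintro A B V h hV ⟨x, hx, hC⟩
  by_cases hc : V ≤ zpowers x
  · refine hN x hC A B ?_ h
    rw [← le_antisymm hc (zpowers_le_of_mem hx)]
    exact hV.le_normalizer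
  obtain ⟨y, hy, hyx⟩ := SetLike.not_le_iff_exists.1 hc
  obtain ⟨f, hf⟩ := C2A.exists_hom_th hC
  have hVC : V ≤ centralizer ({x} : Set MG) := fun v hv => mem_centralizer_singleton_iff.2 (hV.comm v hv x hx)
  have h1 : Nat.card V ≤ 729 := by
    have hE : NTh.Three.EA ((V.subgroupOf (centralizer ({x} : Set MG))).map f) := by
      refine ⟨?_, ?_⟩
      · rintro _ ⟨v, hv, rfl⟩
        rw [← map_pow, show v ^ 3 = 1 from Subtype.ext (hV.pow v hv), map_one]
      · rintro _ ⟨v, hv, rfl⟩ _ ⟨w, hw, rfl⟩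
        rw [← map_mul, ← map_mul, show v * w = w * v from Subtype.ext (hV.comm v hv w hw)]
    have := card_le_hom f hf (Y := V) (Z := (V.subgroupOf (centralizer ({x} : Set MG))).map f) fun v hv =>
      ⟨hVC hv, ⟨v, hVC hv⟩, hv, rfl⟩
    rw [hC.1] at this
    have := card_EA hE
    omega
  have h2 : Nat.card (centralizer ({x} : Set MG) ⊓ centralizer ({y} : Set MG) : Subgroup MG) ≤ 12737088 * 3 := by
    have ho : orderOf (f ⟨y, hVC hy⟩) = 3 := orderOf_eq_prime
      (by rw [← map_pow, show (⟨y, hVC hy⟩ : centralizer ({x} : Set MG)) ^ 3 = 1 from Subtype.ext (hV.pow y hy), map_one])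
      fun e => hyx (hf _ e)
    have := card_le_hom f hf (Y := centralizer ({x} : Set MG) ⊓ centralizer ({y} : Set MG))
      (Z := centralizer {f ⟨y, hVC hy⟩}) fun v hv => ⟨hv.1, mem_centralizer_singleton_iff.2 (by
        rw [← map_mul, ← map_mul]
        exact congrArg f (Subtype.ext (mem_centralizer_singleton_iff.1 hv.2)))⟩
    rw [hC.1] at this
    exact this.trans (Nat.mul_le_mul_right _ (card_cent3 ho))
  have x1 : x ≠ 1 := fun e => by
    have := hC.1
    rw [e, orderOf_one] at this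
    omega
  have h3 := NegS.card_le_two hV.le_normalizer hx x1 hy (fun e => hyx (e ▸ one_mem _)) fun e => hyx (e ▸ mem_zpowers x)
  have h4 := h3.trans (Nat.mul_le_mul (show Nat.card V - 1 ≤ 729 by omega)
    (Nat.mul_le_mul (show Nat.card V - 2 ≤ 729 by omega) h2))
  exact absurd ((hU A B h).trans_le h4) (by norm_num)

end Cfsg.Agent.SP.Mon.L3C
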